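import Mathlib

/-!
# The largest separable subfield of a connected algebra
-/

universe u

open TensorProduct

namespace Groth.Agent.CompSchemeLib

variable {k : Type u} [Field k] {R : Type u} [CommRing R] [Algebra k R]

theorem isField_of_finite_unramified (hR : ∀ e : R, e * e = e → e = 0 ∨ e = 1) [Nontrivial R]
    {A : Type u} [CommRing A] [Algebra k A] [Module.Finite k A] [Algebra.FormallyUnramified k A]
    (φ : A →ₐ[k] R) :
    IsField φ.range ∧ Module.Finite k φ.range ∧ Algebra.FormallyUnramified k φ.range := by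
  haveI hfu : Algebra.FormallyUnramified k φ.range :=
    Algebra.FormallyUnramified.of_surjective φ.rangeRestrict φ.rangeRestrict_surjective
  haveI hfin : Module.Finite k φ.range :=
    Module.Finite.of_surjective φ.rangeRestrict.toLinearMap φ.rangeRestrict_surjective
  haveI : IsReduced φ.range := Algebra.FormallyUnramified.isReduced_of_field k _
  haveI : IsArtinianRing φ.range := IsArtinianRing.of_finite k _
  refine ⟨⟨exists_pair_ne _, mul_comm, fun {a} ha => ?_⟩, hfin, hfu⟩
  obtain ⟨n, y, hy⟩ := IsArtinian.exists_pow_succ_smul_dvd a (1 : φ.range)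
  simp only [smul_eq_mul, mul_one, Nat.succ_eq_add_one] at hy
  have h1 : a * (1 - a * y) = 0 := by
    refine IsNilpotent.eq_zero ⟨n + 1, ?_⟩
    rw [mul_pow, pow_succ (1 - a * y), ← mul_assoc]
    linear_combination (-(a * (1 - a * y) ^ n)) * hy
  refine ⟨y, ?_⟩
  rcases hR ((a * y : φ.range) : R) (congrArg Subtype.val (show (a * y) * (a * y) = a * y by linear_combination (-y) * h1)) with h | h
  · exact absurd (show a = 0 by
      have h2 : a * y = 0 := Subtype.ext h
      linear_combination h1 + a * h2) ha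
  · exact Subtype.ext h

theorem exists_max_sep (hR : ∀ e : R, e * e = e → e = 0 ∨ e = 1) [Nontrivial R]
    {E : Type u} [CommRing E] [Nontrivial E] [Algebra k E] [Module.Finite k E] (ψ : R →ₐ[k] E) :
    ∃ L : Subalgebra k R, IsField L ∧ Module.Finite k L ∧ Algebra.FormallyUnramified k L ∧
      ∀ (B : Type u) [CommRing B] [Algebra k B] [Module.Finite k B] [Algebra.FormallyUnramified k B]
        (φ : B →ₐ[k] R), φ.range ≤ L := by
  let S : Set ℕ := {n | ∃ L : Subalgebra k R, IsField L ∧ Module.Finite k L ∧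
    Algebra.FormallyUnramified k L ∧ Module.finrank k L = n}
  have hbdd : BddAbove S := by
    refine ⟨Module.finrank k E, ?_⟩
    rintro n ⟨L, hL, hfin, -, rfl⟩
    haveI := hfin
    letI := hL.toField
    exact LinearMap.finrank_le_finrank_of_injective (f := (ψ.comp L.val).toLinearMap)
      (RingHom.injective (ψ.comp L.val).toRingHom)
  have hne : S.Nonempty := by
    obtain ⟨h1, h2, h3⟩ := isField_of_finite_unramified hR (Algebra.ofId k R)
    exact ⟨_, _, h1, h2, h3, rfl⟩
  obtain ⟨L, hL, hfin, hfu, hn⟩ := Nat.sSup_mem hne hbdd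
  haveI := hfin
  haveI := hfu
  refine ⟨L, hL, hfin, hfu, fun B _ _ _ _ φ => ?_⟩
  haveI : Algebra.FormallyUnramified k (L ⊗[k] B) := Algebra.FormallyUnramified.comp k L (L ⊗[k] B)
  let m : L ⊗[k] B →ₐ[k] R := Algebra.TensorProduct.lift L.val φ fun x y => Commute.all _ _
  obtain ⟨h1, h2, h3⟩ := isField_of_finite_unramified hR m
  have hle : L ≤ m.range := fun x hx => ⟨⟨x, hx⟩ ⊗ₜ 1, by simp [m]⟩
  have hφ : φ.range ≤ m.range := by
    rintro _ ⟨b, rfl⟩
    exact ⟨1 ⊗ₜ b, by simp [m]⟩
  have hmem : Module.finrank k m.range ∈ S := ⟨_, h1, h2, h3, rfl⟩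
  haveI := h2
  have : L = m.range := by
    refine Subalgebra.toSubmodule_injective (Submodule.eq_of_le_of_finrank_le hle ?_)
    exact (le_csSup hbdd hmem).trans hn.ge
  exact this ▸ hφ

end Groth.Agent.CompSchemeLib
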