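import Mathlib
import Groth.Agent.CompSchemeLib.Algebra

/-!
# The universal étale scheme under a connected scheme over a field
-/

universe u

open CategoryTheory CategoryTheory.Limits AlgebraicGeometry TopologicalSpace

set_option backward.isDefEq.respectTransparency false
set_option backward.isDefEq.respectTransparency.types false
set_option linter.style.haveILetI false

namespace Groth.Agent.CompSchemeLib

/-- A morphism to an affine scheme is determined by its map on global sections. -/
theorem toSpecΓ_comp_eq {X : Scheme.{u}} {A : CommRingCat.{u}} (w : X ⟶ Spec A) :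
    X.toSpecΓ ≫ Spec.map ((Scheme.ΓSpecIso A).inv ≫ w.appTop) = w := by
  rw [Spec.map_comp, ← Scheme.toSpecΓ_naturality_assoc, ← SpecMap_ΓSpecIso_hom, ← Spec.map_comp]
  simp

theorem idem_trivial (C : Scheme.{u}) [PreconnectedSpace C] (e : Γ(C, ⊤)) (he : e * e = e) :
    e = 0 ∨ e = 1 := by
  have hinf : C.basicOpen e ⊓ C.basicOpen (1 - e) = ⊥ := by
    rw [← Scheme.basicOpen_mul, show e * (1 - e) = 0 by linear_combination -he, Scheme.basicOpen_zero]
  have hsup : ∀ x : C, x ∈ C.basicOpen e ∨ x ∈ C.basicOpen (1 - e) := by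
    intro x
    rw [C.mem_basicOpen e x (Opens.mem_top x), C.mem_basicOpen (1 - e) x (Opens.mem_top x)]
    refine IsLocalRing.isUnit_or_isUnit_of_isUnit_add ?_
    rw [← map_add, add_sub_cancel, map_one]
    exact isUnit_one
  have hcl : IsClopen (C.basicOpen e : Set C) := by
    refine ⟨?_, (C.basicOpen e).2⟩
    rw [← isOpen_compl_iff]
    convert (C.basicOpen (1 - e)).2 using 1
    ext x
    exact ⟨fun h => (hsup x).resolve_left h, fun h h' => (hinf.le ⟨h', h⟩).elim⟩
  have hu : ∀ a : Γ(C, ⊤), (∀ x : C, x ∈ C.basicOpen a) → IsUnit a := fun a ha =>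
    C.toRingedSpace.isUnit_of_isUnit_germ ⊤ a fun x hx => (C.mem_basicOpen a x hx).mp (ha x)
  rcases isClopen_iff.mp hcl with h | h
  · exact Or.inl ((hu (1 - e) fun x => (hsup x).resolve_left fun hx => (h.le hx).elim).mul_left_eq_zero.mp
      (by linear_combination -he))
  · exact Or.inr (sub_eq_zero.mp ((hu e fun x => h.ge trivial).mul_right_eq_zero.mp
      (by linear_combination he)))

/-- The universal étale `k`-scheme under a connected scheme locally of finite type over `k`. -/
theorem exists_component {k : Type u} [Field k] {C : Scheme.{u}} (f : C ⟶ Spec (CommRingCat.of k))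
    [LocallyOfFiniteType f] [PreconnectedSpace C] [Nonempty C] :
    ∃ (P : Scheme.{u}) (g : P ⟶ Spec (CommRingCat.of k)) (q : C ⟶ P),
      Etale g ∧ q ≫ g = f ∧ Subsingleton P ∧ Flat q ∧
      ∀ (Y : Scheme.{u}) (gY : Y ⟶ Spec (CommRingCat.of k)) (h : C ⟶ Y), Etale gY → h ≫ gY = f →
        ∃! t : P ⟶ Y, t ≫ gY = g ∧ q ≫ t = h := by
  obtain ⟨x₀⟩ := ‹Nonempty C›
  haveI : Nonempty (⊤ : C.Opens).1 := ⟨⟨x₀, trivial⟩⟩
  letI : Algebra k Γ(C, ⊤) := ((Scheme.ΓSpecIso (CommRingCat.of k)).inv ≫ f.appTop).hom.toAlgebra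
  obtain ⟨U, hU, hxU, -⟩ := exists_isAffineOpen_mem_and_subset (X := C) (Opens.mem_top x₀)
  let ρ : Γ(C, ⊤) →+* Γ(C, U) := (C.presheaf.map (homOfLE le_top).op).hom
  letI : Algebra k Γ(C, U) := (ρ.comp (algebraMap k Γ(C, ⊤))).toAlgebra
  haveI : Algebra.FiniteType k Γ(C, U) := by
    have h := LocallyOfFiniteType.finiteType_appLE f (isAffineOpen_top _) hU (e := le_top)
    have h' : (ρ.comp f.appTop.hom).FiniteType := h
    show ((ρ.comp f.appTop.hom).comp (Scheme.ΓSpecIso (CommRingCat.of k)).inv.hom).FiniteType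
    exact RingHom.FiniteType.comp h' (RingHom.FiniteType.of_surjective (Scheme.ΓSpecIso (CommRingCat.of k)).inv.hom
      (ConcreteCategory.bijective_of_isIso (Scheme.ΓSpecIso (CommRingCat.of k)).inv).2)
  haveI : Nonempty U := ⟨⟨x₀, hxU⟩⟩
  obtain ⟨m, hm⟩ := Ideal.exists_maximal Γ(C, U)
  haveI : Nontrivial Γ(C, ⊤) := ρ.domain_nontrivial
  letI : Field (Γ(C, U) ⧸ m) := Ideal.Quotient.field m
  haveI : Module.Finite k (Γ(C, U) ⧸ m) := finite_of_finite_type_of_isJacobsonRing k (Γ(C, U) ⧸ m)
  let ψ : Γ(C, ⊤) →ₐ[k] Γ(C, U) ⧸ m :=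
    (Ideal.Quotient.mkₐ k m).comp { toRingHom := ρ, commutes' := fun _ => rfl }
  obtain ⟨L, hLf, hfin, hfu, hmax⟩ := exists_max_sep (idem_trivial C) ψ
  letI := hLf.toField
  haveI := hfin
  haveI := hfu
  haveI : Algebra.IsSeparable k L := (Algebra.FormallyUnramified.iff_isSeparable k L).mp hfu
  haveI : Algebra.FormallyEtale k L := Algebra.FormallyEtale.of_isSeparable k L
  haveI : Algebra.FinitePresentation k L := Algebra.FinitePresentation.of_finiteType.mp inferInstance
  haveI : Algebra.Etale k L := {}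
  let i : CommRingCat.of L ⟶ Γ(C, ⊤) := CommRingCat.ofHom L.val.toRingHom
  let q : C ⟶ Spec (CommRingCat.of L) := C.toSpecΓ ≫ Spec.map i
  let g : Spec (CommRingCat.of L) ⟶ Spec (CommRingCat.of k) := Spec.map (CommRingCat.ofHom (algebraMap k L))
  have hg : Etale g := (HasRingHomProperty.Spec_iff (P := @Etale)).mpr (RingHom.etale_algebraMap.mpr inferInstance)
  have hi : CommRingCat.ofHom (algebraMap k L) ≫ i = (Scheme.ΓSpecIso (CommRingCat.of k)).inv ≫ f.appTop := rfl
  have hqg : q ≫ g = f := by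
    rw [Category.assoc, ← Spec.map_comp, hi, toSpecΓ_comp_eq]
  haveI : Flat g := (HasRingHomProperty.Spec_iff (P := @Flat)).mpr
    (show (algebraMap k L).Flat from RingHom.flat_algebraMap_iff.mpr inferInstance)
  haveI : Subsingleton (Spec (CommRingCat.of L)) := inferInstanceAs (Subsingleton (PrimeSpectrum L))
  haveI : Flat q := by
    rw [HasRingHomProperty.iff_appLE (P := @Flat)]
    intro U' V' e
    rcases eq_or_ne U'.1 ⊥ with hU' | hU'
    · have hV' : V'.1 = ⊥ := le_bot_iff.mp (e.trans (by rw [hU']; exact (q.preimage_bot).le))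
      haveI : Subsingleton Γ(C, V'.1) := by rw [hV']; infer_instance
      algebraize [(q.appLE U'.1 V'.1 e).hom]
      exact inferInstanceAs (Module.Flat _ _)
    · have hU'top : U'.1 = ⊤ := by
        refine eq_top_iff.mpr fun x _ => ?_
        obtain ⟨y, hy⟩ : ∃ y, y ∈ U'.1 := by
          by_contra hne
          exact hU' (eq_bot_iff.mpr fun y hy => (hne ⟨y, hy⟩).elim)
        rwa [Subsingleton.elim x y]
      have hF : IsField Γ(Spec (CommRingCat.of L), U'.1) := by
        rw [hU'top]
        exact (Scheme.ΓSpecIso (CommRingCat.of L)).commRingCatIsoToRingEquiv.toMulEquiv.isField hLf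
      letI := hF.toField
      algebraize [(q.appLE U'.1 V'.1 e).hom]
      exact inferInstanceAs (Module.Flat _ _)
  refine ⟨Spec (CommRingCat.of L), g, q, hg, hqg, inferInstance, inferInstance, fun Y gY h hgY hh => ?_⟩
  haveI := hgY
  haveI : DiscreteTopology Y := by
    refine discreteTopology_iff_isOpen_singleton.mpr fun y => ?_
    obtain ⟨W, hW1, hW2, -⟩ := exists_isAffineOpen_mem_and_subset (Opens.mem_top y)
    let a := (Scheme.ΓSpecIso (CommRingCat.of k)).inv ≫ gY.appLE ⊤ W le_top
    letI : Algebra k Γ(Y, W) := a.hom.toAlgebra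
    haveI : Algebra.Etale k Γ(Y, W) := by
      have hE : (gY.appLE ⊤ W le_top).hom.Etale :=
        HasRingHomProperty.appLE (P := @Etale) gY inferInstance ⟨⊤, isAffineOpen_top _⟩ ⟨W, hW1⟩ le_top
      exact RingHom.etale_algebraMap.mp ((RingHom.Etale.respectsIso).2 (gY.appLE ⊤ W le_top).hom
        (Scheme.ΓSpecIso (CommRingCat.of k)).symm.commRingCatIsoToRingEquiv hE)
    haveI : Module.Finite k Γ(Y, W) := Algebra.FormallyUnramified.finite_of_free k _
    haveI : IsArtinianRing Γ(Y, W) := IsArtinianRing.of_finite k _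
    haveI : DiscreteTopology (Spec Γ(Y, W)) := inferInstanceAs (DiscreteTopology (PrimeSpectrum _))
    haveI : DiscreteTopology W := hW1.isoSpec.hom.homeomorph.symm.discreteTopology
    simpa using (isOpen_discrete ({⟨y, hW2⟩} : Set W)).trans W.2
  let V : Y.Opens := ⟨{h x₀}, isOpen_discrete _⟩
  haveI : Subsingleton V := ⟨fun a b => Subtype.ext (a.2.trans b.2.symm)⟩
  haveI : DiscreteTopology V.toScheme := V.ι.isOpenEmbedding.discreteTopology
  haveI : Finite V.toScheme := inferInstanceAs (Finite V)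
  haveI : IsAffine V.toScheme := inferInstance
  have hconst : ∀ x : C, h x ∈ V := fun x => PreconnectedSpace.constant inferInstance h.continuous (y := x₀)
  have hr : Set.range h ⊆ Set.range V.ι := by
    rw [Scheme.Opens.range_ι]; rintro _ ⟨x, rfl⟩; exact hconst x
  let h' := IsOpenImmersion.lift V.ι h hr
  have hh' : h' ≫ V.ι = h := IsOpenImmersion.lift_fac _ _ _
  let w := V.ι ≫ gY
  letI : Algebra k Γ(V.toScheme, ⊤) := ((Scheme.ΓSpecIso (CommRingCat.of k)).inv ≫ w.appTop).hom.toAlgebra
  haveI : Algebra.Etale k Γ(V.toScheme, ⊤) := by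
    have hE : (w.appTop).hom.Etale := HasRingHomProperty.appTop (P := @Etale) w inferInstance
    exact RingHom.etale_algebraMap.mp ((RingHom.Etale.respectsIso).2 w.appTop.hom
      (Scheme.ΓSpecIso (CommRingCat.of k)).symm.commRingCatIsoToRingEquiv hE)
  haveI : Module.Finite k Γ(V.toScheme, ⊤) := Algebra.FormallyUnramified.finite_of_free k _
  let φ : Γ(V.toScheme, ⊤) →ₐ[k] Γ(C, ⊤) :=
    { toRingHom := h'.appTop.hom
      commutes' := fun c => by
        show ((Scheme.ΓSpecIso (CommRingCat.of k)).inv ≫ w.appTop ≫ h'.appTop).hom c = _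
        rw [← Scheme.Hom.comp_appTop, show h' ≫ w = f by rw [← Category.assoc, hh', hh]]
        rfl }
  have hφ : ∀ b, φ b ∈ L := fun b => hmax _ φ ⟨b, rfl⟩
  let φ' : Γ(V.toScheme, ⊤) ⟶ CommRingCat.of L := CommRingCat.ofHom (φ.codRestrict L hφ).toRingHom
  have hφ'i : φ' ≫ i = h'.appTop := rfl
  have hφ'k : ((Scheme.ΓSpecIso (CommRingCat.of k)).inv ≫ w.appTop) ≫ φ' = CommRingCat.ofHom (algebraMap k L) := by
    ext c
    exact congrArg Subtype.val ((φ.codRestrict L hφ).commutes c)
  refine ⟨Spec.map φ' ≫ V.toScheme.isoSpec.inv ≫ V.ι, ⟨?_, ?_⟩, ?_⟩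
  · rw [Category.assoc, Category.assoc]
    conv_lhs => rw [show V.ι ≫ gY = w from rfl, ← toSpecΓ_comp_eq w, ← Scheme.isoSpec_hom,
      Iso.inv_hom_id_assoc, ← Spec.map_comp, hφ'k]
  · simp only [q, Category.assoc]
    rw [← Spec.map_comp_assoc, hφ'i, ← Scheme.toSpecΓ_naturality_assoc, ← Scheme.isoSpec_hom,
      Iso.hom_inv_id_assoc, hh']
  · rintro t ⟨ht1, ht2⟩
    have hrange : Set.range t ⊆ Set.range V.ι := by
      rw [Scheme.Opens.range_ι]
      rintro _ ⟨a, rfl⟩
      have : a = q x₀ := Subsingleton.elim _ _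
      show t a ∈ ({h x₀} : Set Y)
      rw [this, ← Scheme.Hom.comp_apply, ht2]
      rfl
    let t' := IsOpenImmersion.lift V.ι t hrange
    have ht' : t' ≫ V.ι = t := IsOpenImmersion.lift_fac _ _ _
    have hqt : q ≫ t' = h' := by
      rw [← cancel_mono V.ι, Category.assoc, ht', ht2, hh']
    suffices t' = Spec.map φ' ≫ V.toScheme.isoSpec.inv by rw [← ht', this, Category.assoc]
    apply ext_of_isAffine
    have hq : q.appTop = (Scheme.ΓSpecIso (CommRingCat.of L)).hom ≫ i := by
      simp [q]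
    have hinj : Function.Injective q.appTop.hom := by
      rw [hq]
      exact (L.val.toRingHom.injective).comp (ConcreteCategory.bijective_of_isIso (Scheme.ΓSpecIso (CommRingCat.of L)).hom).1
    have h1 : q ≫ Spec.map φ' ≫ V.toScheme.isoSpec.inv = h' := by
      simp only [q, Category.assoc]
      rw [← Spec.map_comp_assoc, hφ'i, ← Scheme.toSpecΓ_naturality_assoc, ← Scheme.isoSpec_hom,
        Iso.hom_inv_id, Category.comp_id]
    ext b
    apply hinj
    have e1 := congr($(congrArg Scheme.Hom.appTop hqt).hom b)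
    have e2 := congr($(congrArg Scheme.Hom.appTop h1).hom b)
    rw [Scheme.Hom.comp_appTop] at e1 e2
    exact e1.trans e2.symm

end Groth.Agent.CompSchemeLib
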